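import Groth.Agent.VarCurve.HomDeg
import Groth.Agent.Crv77.PointTwist
import Groth.Agent.Curves2.AffineCurve
import Groth.Agent.Props58.DimZero
import Mathlib.AlgebraicGeometry.Morphisms.Proper

/-! Ampleness on integral proper curves is positivity of the degree. -/

set_option autoImplicit false
universe u

open CategoryTheory CategoryTheory.Limits AlgebraicGeometry TopologicalSpace Opposite

namespace Groth.Agent.VarCurve

open Groth.Agent.Crv77 Groth.Agent.Var76.LineBundle Groth.Agent.Var76.ZeroScheme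

variable (k : Type u) [Field k] {X : Scheme.{u}} [X.Over (Spec (CommRingCat.of k))]
  [IsIntegral X] [IsProper (X ↘ (Spec (CommRingCat.of k)))]

include k in
theorem not_isAffine_of_dim_one (hdim : topologicalKrullDim X = 1) : ¬ IsAffine X := by
  intro h
  let := (isField_of_universallyClosed k (X ↘ Spec (CommRingCat.of k))).toField
  have : Subsingleton (Spec Γ(X, ⊤)) := inferInstanceAs (Subsingleton (PrimeSpectrum Γ(X, ⊤)))
  have : Subsingleton X := X.isoSpec.schemeIsoToHomeo.injective.subsingleton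
  have h0 : topologicalKrullDim X ≤ 0 := Order.krullDim_nonpos_iff_forall_isMax.2 fun a b _ => by
    intro y _
    obtain ⟨z, hz⟩ := a.isIrreducible.nonempty
    exact Subsingleton.elim z y ▸ hz
  rw [hdim] at h0
  norm_num at h0

include k in
theorem topologicalKrullDim_open (hdim : topologicalKrullDim X = 1) {W : X.Opens} (hW : (W : Set X).Nonempty) :
    topologicalKrullDim W = 1 := by
  have hle : topologicalKrullDim W ≤ 1 :=
    (Topology.IsInducing.subtypeVal.topologicalKrullDim_le).trans hdim.le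
  refine le_antisymm hle ?_
  by_contra hlt
  rw [not_le] at hlt
  have h0 : topologicalKrullDim W ≤ 0 := Props58.le_zero_of_lt_one hlt
  have : JacobsonSpace X := LocallyOfFiniteType.jacobsonSpace (X ↘ Spec (CommRingCat.of k))
  obtain ⟨x, hxW, hx⟩ := nonempty_inter_closedPoints hW W.2.isLocallyClosed
  have hη : genericPoint X ∈ W := ((genericPoint_spec X).mem_open_set_iff W.2).2 (by simpa using hW)
  have he : genericPoint X = x := congrArg Subtype.val (Props58.eq_of_specializes h0
    ((subtype_specializes_iff _ _).2 (genericPoint_specializes x) : (⟨_, hη⟩ : W) ⤳ ⟨x, hxW⟩))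
  have huniv : (Set.univ : Set X) = {x} := by
    have hc : closure ({genericPoint X} : Set X) = Set.univ := (genericPoint_spec X).def
    rw [← hc, he]
    exact IsClosed.closure_eq hx
  have : Subsingleton X := ⟨fun a b => (huniv.le (Set.mem_univ a)).trans (huniv.le (Set.mem_univ b)).symm⟩
  have hX0 : topologicalKrullDim X ≤ 0 := Order.krullDim_nonpos_iff_forall_isMax.2 fun a b _ => by
    intro y _
    obtain ⟨z, hz⟩ := a.isIrreducible.nonempty
    exact Subsingleton.elim z y ▸ hz
  rw [hdim] at hX0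
  norm_num at hX0

include k in
theorem isAffineOpen_of_ne_top (hdim : topologicalKrullDim X = 1) {W : X.Opens}
    (hW : (W : Set X).Nonempty) (hne : W ≠ ⊤) : IsAffineOpen W := by
  have := isNoetherian_of_proper k X
  let f := X ↘ Spec (CommRingCat.of k)
  let : (W : Scheme.{u}).Over (Spec (CommRingCat.of k)) := ⟨W.ι ≫ f⟩
  have : Nonempty (W : Scheme.{u}) := ⟨⟨_, hW.choose_spec⟩⟩
  have : IsIntegral (W : Scheme.{u}) := inferInstance
  have : IsSeparated ((W : Scheme.{u}) ↘ Spec (CommRingCat.of k)) :=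
    inferInstanceAs (IsSeparated (W.ι ≫ f))
  have : LocallyOfFiniteType ((W : Scheme.{u}) ↘ Spec (CommRingCat.of k)) :=
    inferInstanceAs (LocallyOfFiniteType (W.ι ≫ f))
  have : QuasiCompact W.ι := inferInstance
  have : QuasiCompact ((W : Scheme.{u}) ↘ Spec (CommRingCat.of k)) :=
    inferInstanceAs (QuasiCompact (W.ι ≫ f))
  refine Curves2.isAffine_of_not_isProper (k := k) (W : Scheme.{u}) (topologicalKrullDim_open k hdim hW) ?_
  intro hp
  have : IsProper (W.ι ≫ f) := hp
  have : IsProper W.ι := IsProper.of_comp W.ι f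
  have hcl : IsClosed (W : Set X) := by
    have := W.ι.isClosedMap _ isClosed_univ
    rwa [Set.image_univ, Scheme.Opens.range_ι] at this
  exact hne (SetLike.coe_injective (IsClopen.eq_univ ⟨hcl, W.2⟩ hW))

include k in
theorem deg_pos_of_isAmple (hdim : topologicalKrullDim X = 1) {L : X.Modules} (hL : CohB1.IsAmple L) :
    0 < Curv2.deg k X L 1 := by
  have := isNoetherian_of_proper k X
  have hX := curveCoh_of_proper k X hdim.le
  obtain ⟨n, s, hx, haff⟩ := hL.2.2 (genericPoint X)
  have hs : s ≠ 0 := by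
    rintro rfl
    obtain ⟨U, hxU, hU⟩ := Amp73.mem_genLocus_iff.1 hx
    have : Nonempty U := ⟨⟨_, hxU⟩⟩
    have := Scheme.component_nontrivial X U
    refine one_ne_zero (α := Γ(X, U)) ((hU U le_rfl).1 ?_)
    show (1 : Γ(X, U)) • res _ _ _ = (0 : Γ(X, U)) • res _ _ _
    rw [zero_smul, show val (CohB1.tensorPow L (n + 1)) 0 U = 0 from rfl]
    exact (congrArg ((1 : Γ(X, U)) • ·) (map_zero _)).trans (smul_zero _)
  have hi := EGA73.isInvertible_tensorPow hL.1 (n + 1)
  obtain ⟨h, h'⟩ := CurveCoh.deg_le_of_hom hX hdim.le EGA73.isInvertible_structureModule hi s hs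
  rw [Crv77.CurveCoh.deg_structureModule] at h h'
  have hlt : 0 < Curv2.deg k X (CohB1.tensorPow L (n + 1)) 1 := by
    refine lt_of_le_of_ne h fun heq => not_isAffine_of_dim_one k hdim ?_
    have := h' heq
    have htop : CohB1.genLocus _ s = ⊤ := top_le_iff.1 fun x _ => genLocus_eq_top_of_isIso s x
    rw [htop] at haff
    have : IsAffine ((⊤ : X.Opens) : Scheme.{u}) := haff
    exact IsAffine.of_isIso X.topIso.inv
  rw [Crv77.CurveCoh.deg_tensorPow hX hdim.le hL.1] at hlt
  exact (mul_pos_iff_of_pos_left (by positivity)).1 hlt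

include k in
theorem exists_gen_power (hdim : topologicalKrullDim X = 1) {L : X.Modules} (hL : PicF.IsInvertible L)
    (hdeg : 0 < Curv2.deg k X L 1) {x : X} (hx : IsClosed ({x} : Set X)) :
    ∃ (n : ℕ) (t : Γ(CohB1.tensorPow L (n + 1), ⊤)),
      x ∈ CohB1.genLocus _ (Var76.Frames.ofSection _ t) := by
  have := isNoetherian_of_proper k X
  have hX := curveCoh_of_proper k X hdim.le
  let d : ℤ := Module.finrank k (Coh.HH X (ClSub.quotMod (ptIdeal hx)) 0)
  let n : ℕ := ((Curv2.genus k X : ℤ) + d - Curv2.euler k X (Coh.structureModule X)).toNat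
  let M := CohB1.tensorPow L (n + 1)
  have hM : PicF.IsInvertible M := EGA73.isInvertible_tensorPow hL _
  refine ⟨n, (CurveCoh.exists_gen_iff_h0_lt hX hx hM).2 ?_⟩
  set I := ptIdeal hx
  obtain ⟨j, hj⟩ := exists_mono_idealMod_tensor I hM
  have hMc := isCoh_of_isInvertible hM
  have hF := isCoh_tensorMod (isCoh_idealMod I) hMc
  have hS : (I.support : Set X).Finite := (ptIdeal_support hx) ▸ Set.finite_singleton x
  have hcl : ∀ y ∈ (I.support : Set X), IsClosed ({y} : Set X) := fun y hy => by
    rw [ptIdeal_support hx, Set.mem_singleton_iff] at hy; exact hy ▸ hx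
  have hdz : 0 < Module.finrank k (Coh.HH X (ClSub.quotMod I) 0) := by
    have := hX.finite _ (isCoh_quotMod I) 0
    by_contra hz
    rw [not_lt, Nat.le_zero, Module.finrank_zero_iff] at hz
    have hzero := (suppIn_quotMod I).isZero hS hcl hz
    obtain ⟨e⟩ := (suppIn_quotMod I).nonempty_iso_tensorMod (L := M) hS hcl hM
    exact valueAt_ne_zero hx hM ((hzero.of_iso e.symm).eq_zero_of_tgt _)
  have e1 := hX.euler_idealMod_tensor I hS hcl hM hMc
  have e2 : Curv2.euler k X M = ((n + 1 : ℕ) : ℤ) * Curv2.deg k X L 1 + Curv2.euler k X (Coh.structureModule X) := by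
    have h := Crv77.CurveCoh.deg_tensorPow hX hdim.le hL (n + 1)
    simp only [Curv2.deg, Nat.cast_one, one_mul] at h ⊢
    change Curv2.euler k X M - _ = _ at h
    linarith
  have hn1 : ((n + 1 : ℕ) : ℤ) ≤ ((n + 1 : ℕ) : ℤ) * Curv2.deg k X L 1 := by nlinarith
  have hn : (Curv2.genus k X : ℤ) + (Module.finrank k (Coh.HH X (ClSub.quotMod I) 0) : ℤ) -
      Curv2.euler k X (Coh.structureModule X) ≤ n := Int.self_le_toNat _
  rw [hX.euler_eq hF] at e1
  simp only [Crv77.h] at e1
  have h1 : Module.finrank k (Coh.HH X (CohB1.tensorMod (ClSub.idealMod I) M) 1) = 0 := by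
    by_contra hne
    have hg := hX.h0_le_genus hdim.le hF hM j (Module.nontrivial_of_finrank_pos (R := k) (Nat.pos_of_ne_zero hne))
    omega
  rw [hX.euler_eq hMc] at e1
  simp only [Crv77.h] at e1
  omega

include k in
theorem isAmple_of_deg_pos (hdim : topologicalKrullDim X = 1) {L : X.Modules} (hL : PicF.IsInvertible L)
    (hdeg : 0 < Curv2.deg k X L 1) : CohB1.IsAmple L := by
  have := isNoetherian_of_proper k X
  have hX := curveCoh_of_proper k X hdim.le
  refine ⟨hL, inferInstance, fun x => ?_⟩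
  obtain ⟨y, hy, hxy⟩ := exists_isClosed_specializes x
  obtain ⟨n, t, ht⟩ := exists_gen_power k hdim hL hdeg hy
  let s := Var76.Frames.ofSection (CohB1.tensorPow L (n + 1)) t
  refine ⟨n, s, hxy.mem_open (CohB1.genLocus _ s).2 ht, isAffineOpen_of_ne_top k hdim ⟨y, ht⟩ fun htop => ?_⟩
  have hiso : IsIso s := by
    rw [Scheme.Modules.Hom.isIso_iff_isIso_app]
    intro U
    refine (ConcreteCategory.isIso_iff_bijective _).2 ?_
    have hfr := (Amp73.isFrame_iff_le_genLocus s U).2 (htop ▸ le_top)
    refine (congrArg Function.Bijective (funext fun a : Γ(X, U) => ?_)).mp (hfr U le_rfl)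
    refine (congrArg (fun m => HSMul.hSMul (α := Γ(X, U)) a m) (Amp73.res_self _ _)).trans ?_
    refine (Scheme.Modules.Hom.app_smul s a (1 : Γ(X, U))).symm.trans ?_
    exact congrArg (s.app U) (mul_one (show Γ(X, U) from a))
  have e := euler_congr (k := k) (asIso s)
  have h0 := Crv77.CurveCoh.deg_tensorPow hX hdim.le hL (n + 1)
  simp only [Curv2.deg, Nat.cast_one, one_mul, ← e, sub_self] at h0 hdeg
  rcases mul_eq_zero.1 h0.symm with h | h
  · exact absurd h (by positivity)
  · omega

end Groth.Agent.VarCurve
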