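import Groth.Agent.Crv77.Sections
import Mathlib.AlgebraicGeometry.Morphisms.Proper
import Mathlib.FieldTheory.IsAlgClosed.Basic

/-! Global functions of integral proper schemes over algebraically closed fields. -/

set_option autoImplicit false
universe u

open CategoryTheory CategoryTheory.Limits AlgebraicGeometry Opposite

namespace Groth.Agent.VarCurve

open Groth.Agent.Crv77

theorem finrank_h0_eq_one (k : Type u) [Field k] [IsAlgClosed k] (X : Scheme.{u})
    [X.Over (Spec (CommRingCat.of k))] [IsIntegral X] [IsProper (X ↘ (Spec (CommRingCat.of k)))] :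
    Module.finrank k (Coh.HH X (Coh.structureModule X) 0) = 1 := by
  let f := X ↘ Spec (CommRingCat.of k)
  let φ : k →+* Γ(X, ⊤) := Coh.toGlobal f
  have hF : IsField Γ(X, ⊤) := isField_of_universallyClosed k f
  let := hF.toField
  let : Algebra k Γ(X, ⊤) := φ.toAlgebra
  have hfin : φ.Finite := (finite_appTop_of_universallyClosed k f).comp
    (RingHom.Finite.of_surjective _ (Scheme.ΓSpecIso (CommRingCat.of k)).symm.commRingCatIsoToRingEquiv.surjective)
  have : Module.Finite k Γ(X, ⊤) := hfin
  have hb : Function.Bijective φ :=
    ⟨φ.injective, IsAlgClosed.algebraMap_bijective_of_isIntegral.2⟩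
  let e : k →ₗ[k] Coh.HH X (Coh.structureModule X) 0 :=
    { toFun := fun c => (sec (Coh.structureModule X)).symm (φ c)
      map_add' := fun a b => by rw [map_add]; exact map_add _ _ _
      map_smul' := fun a b => by
        refine (sec (Coh.structureModule X)).injective ?_
        refine ((sec (Coh.structureModule X)).apply_symm_apply _).trans ((map_mul φ a b).trans ?_)
        refine Eq.trans ?_ (sec_smul k (Coh.structureModule X) a _).symm
        exact congrArg (fun m : Γ(X, ⊤) => φ a * m)
          ((sec (Coh.structureModule X)).apply_symm_apply (φ b)).symm }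
  have he : Function.Bijective e :=
    (sec (Coh.structureModule X)).symm.bijective.comp hb
  rw [← (LinearEquiv.ofBijective e he).finrank_eq, Module.finrank_self]

end Groth.Agent.VarCurve
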