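import Groth.Agent.S15923
import Groth.Agent.VarCurve.AlgClosedConst
import Groth.Agent.Crv77.PointDeg
import Groth.Agent.Crv77.MaxSeries
import Groth.Agent.Crv77.InvMod
import Mathlib.AlgebraicGeometry.Morphisms.Smooth

/-! Removing general points from invertible modules on curves over algebraically closed fields. -/

set_option autoImplicit false
universe u

open CategoryTheory CategoryTheory.Limits AlgebraicGeometry TopologicalSpace

namespace Groth.Agent.VarCurve

open Groth.Agent.Crv77 Groth.Agent.Var76.LineBundle Groth.Agent.Var76.ZeroScheme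

variable (k : Type u) [Field k] [IsAlgClosed k] {X : Scheme.{u}} [X.Over (Spec (CommRingCat.of k))]
  [IsIntegral X] [IsProper (X ↘ (Spec (CommRingCat.of k)))]

include k in
/-- Invertible point ideals are dense. -/
theorem exists_point (hdim : topologicalKrullDim X = 1) {W : X.Opens} (hW : (W : Set X).Nonempty) :
    ∃ (x : X) (hx : IsClosed ({x} : Set X)), x ∈ W ∧ PicF.IsInvertible (ClSub.idealMod (ptIdeal hx)) := by
  have := isNoetherian_of_proper k X
  have : LocallyOfFinitePresentation (X ↘ Spec (CommRingCat.of k)) := inferInstance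
  have : JacobsonSpace X := LocallyOfFiniteType.jacobsonSpace (X ↘ Spec (CommRingCat.of k))
  let S := (X ↘ Spec (CommRingCat.of k)).smoothLocus
  have hne : ((W : Set X) ∩ S).Nonempty :=
    (Scheme.Hom.dense_smoothLocus_of_perfectField (X ↘ Spec (CommRingCat.of k))).inter_open_nonempty _ W.2 hW
  obtain ⟨x, hxm, hx⟩ := nonempty_inter_closedPoints hne (W.2.inter S.2).isLocallyClosed
  refine ⟨x, hx, hxm.1, (S15923.result k X ?_ x hx).2 ⟨S, hxm.2, ?_⟩⟩
  · intro Z hZ
    rw [irreducibleComponents_eq_singleton, Set.mem_singleton_iff] at hZ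
    subst hZ
    rw [(Homeomorph.Set.univ (X : Type u)).isHomeomorph.topologicalKrullDim_eq, hdim]
  · rw [← Scheme.Hom.smoothLocus_eq_top_iff, ← Scheme.Hom.preimage_smoothLocus_eq]
    exact Scheme.Opens.ι_preimage_self _

omit [IsAlgClosed k] [IsProper (X ↘ (Spec (CommRingCat.of k)))] in
variable {k} in
theorem genLocus_nonempty {L : X.Modules} (hL : PicF.IsInvertible L) {t : Γ(L, ⊤)} (ht : t ≠ 0) :
    (CohB1.genLocus L (Var76.Frames.ofSection L t) : Set X).Nonempty := by
  obtain ⟨U, hU, e, he⟩ := Mero90.exists_frame' hL (genericPoint X)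
  obtain ⟨c, hc⟩ := Amp73.exists_coord (Var76.Frames.ofSection L t) he
  have hc0 : c ≠ 0 := by
    rintro rfl
    rw [zero_smul, Var76.Frames.val_ofSection] at hc
    exact ht (eq_zero_of_res_eq_zero hL (le_top : U ≤ ⊤) ⟨_, hU⟩ t hc.symm)
  refine Set.Nonempty.mono (s := (X.basicOpen c : Set X)) (fun y hy => ?_)
    (Set.nonempty_iff_ne_empty.2 fun h => hc0 ((basicOpen_eq_bot_iff c).1 (SetLike.coe_injective h)))
  exact ((Amp73.genLocus_inf_eq_basicOpen (Var76.Frames.ofSection L t) he hc).ge hy).1

/-- Subtracting a general point lowers `h⁰` by one, keeping `h¹ = 0`. -/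
theorem exists_drop (hdim : topologicalKrullDim X = 1) {L : X.Modules} (hL : PicF.IsInvertible L)
    (h1 : Subsingleton (Coh.HH X L 1)) (h0 : 0 < Module.finrank k (Coh.HH X L 0)) :
    ∃ M : X.Modules, PicF.IsInvertible M ∧ Subsingleton (Coh.HH X M 1) ∧
      Module.finrank k (Coh.HH X M 0) + 1 = Module.finrank k (Coh.HH X L 0) := by
  have := isNoetherian_of_proper k X
  have hX := curveCoh_of_proper k X hdim.le
  have := Module.nontrivial_of_finrank_pos h0
  obtain ⟨v, hv⟩ := exists_ne (0 : Coh.HH X L 0)
  have hv' : sec L v ≠ 0 := fun h => hv ((sec L).injective (h.trans (map_zero _).symm))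
  obtain ⟨x, hx, hxW, hI⟩ := exists_point k hdim (genLocus_nonempty hL hv')
  refine ⟨CohB1.tensorMod (ClSub.idealMod (ptIdeal hx)) L, EGA73.isInvertible_tensorMod hI hL, ?_, ?_⟩
  all_goals
    have hlt := (CurveCoh.exists_gen_iff_h0_lt hX hx hL).1 ⟨_, hxW⟩
    have hle := CurveCoh.h0_le_add_point hX hx hL
    have hq : Module.finrank k (Coh.HH X (ClSub.quotMod (ptIdeal hx)) 0) = 1 := by
      rw [finrank_quot_point k hx, finrank_residueField_eq_one k hx]
    rw [hq] at hle
  · have hLc := isCoh_of_isInvertible hL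
    have hF := isCoh_tensorMod (isCoh_idealMod (ptIdeal hx)) hLc
    have hS : ((ptIdeal hx).support : Set X).Finite := (ptIdeal_support hx) ▸ Set.finite_singleton x
    have hcl : ∀ y ∈ ((ptIdeal hx).support : Set X), IsClosed ({y} : Set X) := fun y hy => by
      rw [ptIdeal_support hx, Set.mem_singleton_iff] at hy; exact hy ▸ hx
    have e1 := hX.euler_idealMod_tensor (ptIdeal hx) hS hcl hL hLc
    rw [hX.euler_eq hF, hX.euler_eq hLc] at e1
    have hz : Module.finrank k (Coh.HH X L 1) = 0 := Module.finrank_zero_of_subsingleton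
    simp only [h, hz, hq] at e1
    have := hX.finite _ hF 1
    refine (Module.finrank_zero_iff (R := k)).1 ?_
    omega
  · omega

/-- An invertible module without higher cohomology and with a nonzero section. -/
theorem exists_big (hdim : topologicalKrullDim X = 1) :
    ∃ L : X.Modules, PicF.IsInvertible L ∧ Subsingleton (Coh.HH X L 1) ∧
      0 < Module.finrank k (Coh.HH X L 0) := by
  have := isNoetherian_of_proper k X
  have hX := curveCoh_of_proper k X hdim.le
  have h00 := finrank_h0_eq_one k X
  obtain ⟨x, hx, -, hI⟩ := exists_point k hdim (W := ⊤) ⟨genericPoint X, trivial⟩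
  obtain ⟨M, hM, ⟨e⟩⟩ := exists_inverse hI
  have hS : ((ptIdeal hx).support : Set X).Finite := (ptIdeal_support hx) ▸ Set.finite_singleton x
  have hcl : ∀ y ∈ ((ptIdeal hx).support : Set X), IsClosed ({y} : Set X) := fun y hy => by
    rw [ptIdeal_support hx, Set.mem_singleton_iff] at hy; exact hy ▸ hx
  have e1 := hX.euler_idealMod_tensor (ptIdeal hx) hS hcl EGA73.isInvertible_structureModule
    (isCoh_structureModule (X := X))
  rw [euler_congr (k := k) (EGA73.tensUnitRight (X := X) _)] at e1
  have hq : Module.finrank k (Coh.HH X (ClSub.quotMod (ptIdeal hx)) 0) = 1 := by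
    rw [finrank_quot_point k hx, finrank_residueField_eq_one k hx]
  have hd := hX.deg_tensorMod hdim.le hI hM
  have he : Curv2.deg k X (CohB1.tensorMod (ClSub.idealMod (ptIdeal hx)) M) 1 = 0 := by
    simp only [Curv2.deg, euler_congr (k := k) e]
    ring
  have hdI : Curv2.deg k X (ClSub.idealMod (ptIdeal hx)) 1 = -1 := by
    simp only [Crv77.h, hq] at e1
    simp only [Curv2.deg, e1]
    ring
  let N := 2 * Curv2.genus k X
  let L := CohB1.tensorPow M N
  have hLi : PicF.IsInvertible L := EGA73.isInvertible_tensorPow hM N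
  have hdL : Curv2.deg k X L 1 = 2 * (Curv2.genus k X : ℤ) := by
    rw [show L = CohB1.tensorPow M N from rfl, CurveCoh.deg_tensorPow hX hdim.le hM]
    simp only [N]
    push_cast
    rw [show Curv2.deg k X M 1 = 1 by omega]
    ring
  have h1 := hX.h1_eq_zero_of_deg_gt hdim h00 hLi (by omega)
  refine ⟨L, hLi, h1, ?_⟩
  have e2 := hX.riemann h00 (isCoh_of_isInvertible hLi)
  have hz : Module.finrank k (Coh.HH X L 1) = 0 := Module.finrank_zero_of_subsingleton
  simp only [Crv77.h, hz] at e2
  omega

theorem exists_h0_one (hdim : topologicalKrullDim X = 1) :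
    ∃ L : X.Modules, PicF.IsInvertible L ∧ Module.finrank k (Coh.HH X L 0) = 1 ∧
      Subsingleton (Coh.HH X L 1) := by
  obtain ⟨L, hL, h1, h0⟩ := exists_big k hdim
  generalize hn : Module.finrank k (Coh.HH X L 0) = n at h0
  induction n generalizing L with
  | zero => omega
  | succ m ih =>
    rcases Nat.eq_zero_or_pos m with rfl | hm
    · exact ⟨L, hL, hn, h1⟩
    · obtain ⟨M, hM, hM1, hM0⟩ := exists_drop k hdim hL h1 (by omega)
      exact ih M hM hM1 (by omega) hm

end Groth.Agent.VarCurve
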