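import Groth.Agent.Crv77.TwistSection
import Groth.Agent.Crv77.MaxSeries
import Groth.Agent.EGA73.Invertible

/-! Nonzero maps of invertible modules on integral curves: injectivity and degrees. -/

set_option autoImplicit false
universe u

open CategoryTheory CategoryTheory.Limits AlgebraicGeometry TopologicalSpace

namespace Groth.Agent.VarCurve

open Groth.Agent.Var76.LineBundle (IsFrame)
open Groth.Agent.Crv77

variable {X : Scheme.{u}}

theorem hom_ext_zero_of_sections {M N : X.Modules} (φ : M ⟶ N)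
    (h : ∀ (W : X.Opens) (s : Γ(M, W)), φ.app W s = 0) : φ = 0 := by
  ext W s
  exact (h W s).trans (by rfl)

/-- A nonzero map of invertible modules is injective and surjective at the generic point. -/
theorem hom_of_invertible [IsIntegral X] {N L : X.Modules} (hN : PicF.IsInvertible N)
    (hL : PicF.IsInvertible L) (φ : N ⟶ L) (hφ : φ ≠ 0) :
    Mono φ ∧ Function.Surjective (QC70.stalkMapM φ (genericPoint X)) := by
  obtain ⟨U, hηU, e₀, he₀⟩ := Mero90.exists_frame' hN (genericPoint X)
  obtain ⟨V, hηV, f₀, hf₀⟩ := Mero90.exists_frame' hL (genericPoint X)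
  let W := U ⊓ V
  have hWne : (W : Set X).Nonempty := ⟨_, hηU, hηV⟩
  let e := Var76.LineBundle.res N (inf_le_left : W ≤ U) e₀
  let f := Var76.LineBundle.res L (inf_le_right : W ≤ V) f₀
  have he : IsFrame N W e := he₀.res _
  have hf : IsFrame L W f := hf₀.res _
  obtain ⟨a, ha⟩ := (hf W le_rfl).2 (φ.app W e)
  have ha' : a • Var76.LineBundle.res L le_rfl f = φ.app W e := ha
  have key₀ : ∀ (O : X.Opens) (hO : O ≤ W) (c : Γ(X, O)),
      φ.app O (c • Var76.LineBundle.res N hO e) = (c * QC70.resO X hO a) • Var76.LineBundle.res L hO f := by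
    intro O hO c
    rw [Scheme.Modules.Hom.app_smul, mul_smul]
    refine congrArg (c • ·) ?_
    refine (QC70.app_res φ hO e).trans ?_
    rw [← ha']
    refine (QC70.res_smul hO a (Var76.LineBundle.res L le_rfl f)).trans ?_
    exact congrArg _ (Var76.LineBundle.res_res L le_rfl hO f)
  have hlift : ∀ (O : X.Opens) (s : Γ(N, O)), ∃ c : Γ(X, (O ⊓ W : X.Opens)),
      QC70.res N inf_le_left s = c • Var76.LineBundle.res N (inf_le_right : O ⊓ W ≤ W) e := by
    intro O s
    obtain ⟨c, hc⟩ := (he (O ⊓ W) inf_le_right).2 (QC70.res N inf_le_left s)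
    exact ⟨c, hc.symm⟩
  have ha0 : a ≠ 0 := by
    intro h0
    refine hφ (hom_ext_zero_of_sections φ fun O s => ?_)
    by_cases hO : (O : Set X).Nonempty
    · refine eq_zero_of_res_eq_zero hL (inf_le_left : O ⊓ W ≤ O)
        (nonempty_preirreducible_inter O.2 W.2 hO hWne) _ ?_
      obtain ⟨c, hc⟩ := hlift O s
      rw [← QC70.app_res, hc, key₀, h0, show QC70.resO X (inf_le_right : O ⊓ W ≤ W) (0 : Γ(X, W)) = 0 from
        map_zero (X.presheaf.map _).hom, mul_zero, zero_smul]
    · exact QC70.section_ext L _ _ fun p hp => (hO ⟨p, hp⟩).elim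
  let D := X.basicOpen a
  have hDW : D ≤ W := X.basicOpen_le a
  have hηD : genericPoint X ∈ D := by
    refine ((genericPoint_spec X).mem_open_set_iff D.2).2 ?_
    rw [Set.univ_inter]
    refine Set.nonempty_iff_ne_empty.2 fun h => ha0 ((basicOpen_eq_bot_iff a).1 ?_)
    exact SetLike.coe_injective h
  have hunit : ∀ (O : X.Opens) (hO : O ≤ D), IsUnit (QC70.resO X (hO.trans hDW) a) := by
    intro O hO
    have := (RingedSpace.isUnit_res_basicOpen X.toRingedSpace a).map (X.presheaf.map (homOfLE hO).op).hom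
    rw [← QC70.resO_resO hDW hO a]
    exact this
  refine ⟨QC70.mono_of_app_injective φ fun O => ?_, fun t => ?_⟩
  · refine (injective_iff_map_eq_zero (φ.app O).hom).2 fun s hs => ?_
    by_cases hO : (O : Set X).Nonempty
    · let O' := O ⊓ D
      have hne : (O' : Set X).Nonempty := nonempty_preirreducible_inter O.2 D.2 hO ⟨_, hηD⟩
      refine eq_zero_of_res_eq_zero hN (inf_le_left : O' ≤ O) hne s ?_
      obtain ⟨c, hc⟩ := (he O' (inf_le_right.trans hDW)).2 (QC70.res N inf_le_left s)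
      have hc' : c • Var76.LineBundle.res N (inf_le_right.trans hDW) e = QC70.res N inf_le_left s := hc
      have h0 : φ.app O' (c • Var76.LineBundle.res N (inf_le_right.trans hDW) e) = 0 := by
        rw [hc', QC70.app_res, show φ.app O s = 0 from hs]
        exact map_zero _
      rw [key₀] at h0
      have h1 : c * QC70.resO X (inf_le_right.trans hDW : O' ≤ W) a = 0 :=
        (hf O' (inf_le_right.trans hDW)).1 (h0.trans (zero_smul _ _).symm)
      rw [← hc', (hunit O' inf_le_right).mul_left_eq_zero.1 h1, zero_smul]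
    · exact QC70.section_ext N _ _ fun p hp => (hO ⟨p, hp⟩).elim
  · obtain ⟨O, hO, m, rfl⟩ := QC70.germM_exist t
    let O' := O ⊓ D
    obtain ⟨b, hb⟩ := (hf O' (inf_le_right.trans hDW)).2 (QC70.res L inf_le_left m)
    obtain ⟨v, hv⟩ := hunit O' inf_le_right
    refine ⟨QC70.germM N O' _ ⟨hO, hηD⟩
      ((b * ↑v⁻¹) • Var76.LineBundle.res N (inf_le_right.trans hDW) e), ?_⟩
    refine (QC70.stalkMapM_germ φ _ _).trans ?_
    rw [← QC70.germM_res (inf_le_left : O' ≤ O) ⟨hO, hηD⟩ m]
    refine congrArg _ ((key₀ O' _ _).trans ?_)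
    rw [← hb, ← hv, mul_assoc, Units.inv_mul, mul_one]

variable {k : Type u} [Field k] [X.Over (Spec (CommRingCat.of k))]

theorem CurveCoh.exists_deg_sub (hX : CurveCoh k X) [IsIntegral X] [IsNoetherian X]
    (hdim : topologicalKrullDim X ≤ 1) {N L : X.Modules} (hN : PicF.IsInvertible N)
    (hL : PicF.IsInvertible L) (φ : N ⟶ L) (hφ : φ ≠ 0) :
    ∃ (S : Set X), S.Finite ∧ (∀ x ∈ S, IsClosed ({x} : Set X)) ∧ SuppIn (cokernel φ) S ∧
      Coh.IsCoh (cokernel φ) ∧ Mono φ ∧
      Curv2.deg k X L 1 - Curv2.deg k X N 1 = Crv77.h (k := k) 0 (cokernel φ) := by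
  obtain ⟨hm, hgen⟩ := hom_of_invertible hN hL φ hφ
  have hNc := isCoh_of_isInvertible hN
  have hLc := isCoh_of_isInvertible hL
  have hQ := isCoh_cokernel φ hNc hLc
  obtain ⟨S, hS, hcl, hsupp⟩ := exists_suppIn hdim hQ (QC70.subsingleton_stalk_cokernel φ _ hgen)
  let T := ShortComplex.mk φ (cokernel.π φ) (cokernel.condition _)
  have hT : T.ShortExact :=
    { exact := ShortComplex.exact_of_g_is_cokernel _ (cokernelIsCokernel _)
      mono_f := hm
      epi_g := inferInstanceAs (Epi (cokernel.π _)) }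
  refine ⟨S, hS, hcl, hsupp, hQ, hm, ?_⟩
  have e := hX.euler_add hT hNc hLc
  rw [hX.euler_eq_of_suppIn hQ hsupp hS hcl] at e
  simp only [Curv2.deg, Nat.cast_one, one_mul]
  change Curv2.euler k X L = _ at e
  linarith

theorem CurveCoh.deg_le_of_hom (hX : CurveCoh k X) [IsIntegral X] [IsNoetherian X]
    (hdim : topologicalKrullDim X ≤ 1) {N L : X.Modules} (hN : PicF.IsInvertible N)
    (hL : PicF.IsInvertible L) (φ : N ⟶ L) (hφ : φ ≠ 0) :
    Curv2.deg k X N 1 ≤ Curv2.deg k X L 1 ∧ (Curv2.deg k X N 1 = Curv2.deg k X L 1 → IsIso φ) := by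
  obtain ⟨S, hS, hcl, hsupp, hQ, hm, hd⟩ := CurveCoh.exists_deg_sub hX hdim hN hL φ hφ
  have h0 : 0 ≤ Crv77.h (k := k) 0 (cokernel φ) := Nat.cast_nonneg _
  refine ⟨by linarith, fun heq => ?_⟩
  have hz : IsZero (cokernel φ) := by
    have := hX.finite _ hQ 0
    refine hsupp.isZero hS hcl ((Module.finrank_zero_iff (R := k)).1 ?_)
    simp only [Crv77.h] at hd
    omega
  have : Epi φ := Preadditive.epi_of_isZero_cokernel φ hz
  exact isIso_of_mono_of_epi φ

theorem genLocus_eq_top_of_isIso {L : X.Modules} (s : Coh.structureModule X ⟶ L) [IsIso s] (x : X) :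
    x ∈ CohB1.genLocus L s :=
  Opens.mem_sSup.2 ⟨⊤, (inferInstance : IsIso ((Scheme.Modules.restrictFunctor (⊤ : X.Opens).ι).map s)), trivial⟩

end Groth.Agent.VarCurve
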