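import Groth.Agent.Var76.RegBasic
import Groth.Agent.Crv77.Sections
import Groth.Agent.ValVan29.Vanish
import Groth.Agent.Amp73.ProjGen

/-! Global generation of the regular twist (Castelnuovo–Mumford). -/

universe u

open CategoryTheory Limits AlgebraicGeometry TopologicalSpace Opposite

noncomputable section

set_option backward.isDefEq.respectTransparency false

namespace Groth.Agent.VarCurve

open Amp73 Var76.LineBundle Var76.ZeroScheme Crv77 EGA73
open Var76.Reg (xVar xOpen tw xMul kd Reg twMul mulX gUnit isFrame_unit mulX_gUnit twMul_bijective whiskL_tm)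

variable {X : Scheme.{u}}

theorem spanAt_basicOpen {G : X.Modules} (hG : Coh.IsQCoh G) {U : X.Opens} (hU : IsAffineOpen U)
    (hsp : SpanAt G U) (r : Γ(X, U)) : SpanAt G (X.basicOpen r) := by
  refine eq_top_iff.2 fun w _ => ?_
  obtain ⟨m, u, hu⟩ := (isLocAt hG hU).exists_of r w
  have hr : IsUnit (fres (X.basicOpen_le r) r) := RingedSpace.isUnit_res_basicOpen _ r
  obtain ⟨v, hv⟩ := (hr.pow m).exists_left_inv
  have hw : w = v • res G (X.basicOpen_le r) u := by
    rw [show res G _ u = _ from hu, smul_smul]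
    exact ((congrArg (· • w) hv).trans (one_smul _ _)).symm
  rw [hw]
  refine Submodule.smul_mem _ v (Submodule.span_induction ?_ ?_ ?_ ?_ (hsp.ge (Submodule.mem_top (x := u))))
  · rintro _ ⟨t, rfl⟩
    rw [res_res]
    exact Submodule.subset_span ⟨t, rfl⟩
  · rw [res_zero']; exact Submodule.zero_mem _
  · intro a b _ _ ha hb; rw [res_add]; exact Submodule.add_mem _ ha hb
  · intro a b _ hb; rw [res_smul]; exact Submodule.smul_mem _ _ hb

variable (n : ℕ) (A : Type u) [CommRing A] (F : (CohB1.ProjSpace n A).Modules)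

/-- On `D₊(x_l)` multiplication by a coordinate is a multiple of multiplication by `x_l`. -/
theorem exists_xMul_eq (l i : Fin (n + 1)) (d e : ℤ) (h : e = d + 1) {V : (CohB1.ProjSpace n A).Opens}
    (hV : V ≤ xOpen n A l) : ∃ c : Γ(CohB1.ProjSpace n A, V), ∀ y : Γ(tw n A F d, V),
      (xMul n A F i d e h).app V y = c • (xMul n A F l d e h).app V y := by
  have hd := isFrame_unit (gUnit (xVar n A l) d)
  have he := isFrame_unit (gUnit (xVar n A l) e)
  obtain ⟨c, hc⟩ := (he V hV).2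
    ((mulX (xVar n A i) h).app V (res (Twist.twistProjSpace n A d) hV (gUnit (xVar n A l) d).fwd))
  refine ⟨c, fun y => ?_⟩
  obtain ⟨m, rfl⟩ := exists_eq_tm_frame hd hV y
  have h1 : (mulX (xVar n A l) h).app V (res (Twist.twistProjSpace n A d) hV (gUnit (xVar n A l) d).fwd) =
      res (Twist.twistProjSpace n A e) hV (gUnit (xVar n A l) e).fwd :=
    (ConcreteCategory.congr_hom ((mulX (xVar n A l) h).mapPresheaf.naturality (homOfLE hV).op) _).trans
      (congrArg (res (Twist.twistProjSpace n A e) hV) (mulX_gUnit (xVar n A l) h))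
  refine (whiskL_tm F (mulX (xVar n A i) h) m _).trans ?_
  refine Eq.trans ?_ (congrArg (c • ·) (whiskL_tm F (mulX (xVar n A l) h) m _)).symm
  refine (congrArg (tm F _ m) hc.symm).trans ((tm_smul_right c m _).trans ?_)
  exact congrArg (c • ·) (congrArg (tm F _ m) h1.symm)

theorem dd_zero_app (d e : ℤ) (h : e = d + 1) (w : Γ((kd n A F).C 1 d, (⊤ : (CohB1.ProjSpace n A).Opens))) :
    ((kd n A F).dd 0 d e h).app ⊤ w = ∑ l, (xMul n A F l d e h).app ⊤
      ((biproduct.π (fun _ : Fin (n + 1) => tw n A F d) l).app ⊤ w) := by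
  have : (kd n A F).dd 0 d e h =
      ∑ l, biproduct.π (fun _ : Fin (n + 1) => tw n A F d) l ≫ xMul n A F l d e h := by
    exact biproduct.desc_eq (J := Fin (n + 1))
  rw [this]
  let ev : ((kd n A F).C 1 d ⟶ tw n A F e) →+ Γ(tw n A F e, (⊤ : (CohB1.ProjSpace n A).Opens)) :=
    AddMonoidHom.mk' (fun ψ => ψ.app ⊤ w) (fun _ _ => rfl)
  exact map_sum ev (fun l => biproduct.π (fun _ : Fin (n + 1) => tw n A F d) l ≫ xMul n A F l d e h) Finset.univ

variable {n A F}

/-- Descending step. -/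
theorem spanAt_pred (hF : Coh.IsQCoh F) {m d e : ℤ} (hreg : Reg n A F m) (he : e = d + 1) (hd : m ≤ d)
    (h : ∀ x, ∃ U, x ∈ U ∧ IsAffineOpen U ∧ SpanAt (tw n A F e) U) (x : CohB1.ProjSpace n A) :
    ∃ U, x ∈ U ∧ IsAffineOpen U ∧ SpanAt (tw n A F d) U := by
  obtain ⟨U₀, hxU₀, hU₀, hsp₀⟩ := h x
  obtain ⟨l, hl⟩ := Var76.Reg.exists_mem_xOpen n A x
  obtain ⟨r, hrl, hxr⟩ := hU₀.exists_basicOpen_le ⟨x, hl⟩ hxU₀
  have hsp := spanAt_basicOpen (Var76.Reg.isQCoh_tw n A F hF e) hU₀ hsp₀ r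
  set D := (CohB1.ProjSpace n A).basicOpen r
  refine ⟨D, hxr, hU₀.basicOpen r, eq_top_iff.2 fun y _ => ?_⟩
  have hbij : Function.Bijective ((xMul n A F l d e he).app D) :=
    twMul_bijective (𝒜 := CohB1.polyGrading n A) F (xVar n A l) he hrl
  let φ : Γ(tw n A F d, D) →ₗ[Γ(CohB1.ProjSpace n A, D)] Γ(tw n A F e, D) :=
    { toFun := (xMul n A F l d e he).app D
      map_add' := map_add _
      map_smul' := fun a m => Scheme.Modules.Hom.app_smul _ a m }
  let P := Submodule.span Γ(CohB1.ProjSpace n A, D)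
    (Set.range fun t : Γ(tw n A F d, ⊤) => res (tw n A F d) (le_top : D ≤ ⊤) t)
  have hle : (⊤ : Submodule _ _) ≤ P.map φ := by
    rw [← (show Submodule.span _ _ = ⊤ from hsp), Submodule.span_le]
    rintro _ ⟨s, rfl⟩
    obtain ⟨z, hz⟩ := hreg.surjective_coord hF he hd ((sec (tw n A F e)).symm s)
    have hs : s = ∑ i, (xMul n A F i d e he).app ⊤
        ((biproduct.π (fun _ : Fin (n + 1) => tw n A F d) i).app ⊤ (sec ((kd n A F).C 1 d) z)) := by
      refine Eq.trans ?_ (dd_zero_app n A F d e he (sec ((kd n A F).C 1 d) z))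
      refine Eq.trans ?_ (sec_hmap A ((kd n A F).dd 0 d e he) z)
      exact (((sec (tw n A F e)).apply_symm_apply s).symm).trans (congrArg (sec (tw n A F e)) hz.symm)
    show res (tw n A F e) (le_top : D ≤ ⊤) s ∈ P.map φ
    rw [hs]
    rw [show ∀ (ι : Type) [Fintype ι] (f : ι → Γ(tw n A F e, ⊤)), res (tw n A F e) (le_top : D ≤ ⊤) (∑ i, f i) =
      ∑ i, res (tw n A F e) le_top (f i) from fun ι _ f => map_sum ((tw n A F e).presheaf.map _).hom _ _]
    refine Submodule.sum_mem _ fun i _ => ?_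
    set t := (biproduct.π (fun _ : Fin (n + 1) => tw n A F d) i).app ⊤ (sec ((kd n A F).C 1 d) z)
    obtain ⟨c, hc⟩ := exists_xMul_eq n A F l i d e he hrl
    refine ⟨c • res (tw n A F d) le_top t, P.smul_mem c (Submodule.subset_span ⟨t, rfl⟩), ?_⟩
    show (xMul n A F l d e he).app D (c • res (tw n A F d) le_top t) = _
    rw [Scheme.Modules.Hom.app_smul, ← hc, Mero90.app_res]
  obtain ⟨y', hy', hyy⟩ := hle (Submodule.mem_top (x := φ y))
  exact hbij.1 hyy ▸ hy'

theorem isGloballyGenerated_of_reg (hF : Coh.IsCoh F) {m : ℤ} (hreg : Reg n A F m) :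
    Curv2.IsGloballyGenerated (tw n A F m) := by
  classical
  obtain ⟨n₀, h₀⟩ := eventually_spanAt_twistBy (Finset.univ.image (MvPolynomial.X : Fin (n + 1) → _))
    (fun f hf => by
      obtain ⟨i, -, rfl⟩ := Finset.mem_image.1 hf
      exact MvPolynomial.isHomogeneous_X A i)
    (ValVan29.generated (R := A) (N := n)) F hF
  let P : ℤ → Prop := fun d => ∀ x, ∃ U, x ∈ U ∧ IsAffineOpen U ∧ SpanAt (tw n A F d) U
  have hbig : ∃ d, m ≤ d ∧ P d := ⟨(max n₀ m.toNat : ℕ), by omega, fun x => h₀ _ (le_max_left _ _) x⟩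
  obtain ⟨d, hmd, hPd⟩ := hbig
  obtain ⟨t, rfl⟩ := Int.le.dest hmd
  have key : ∀ t : ℕ, P (m + t) → P m := by
    intro t
    induction t with
    | zero => simp
    | succ t ih => exact fun h => ih (spanAt_pred hF.1 hreg (e := m + (t + 1 : ℕ)) (by push_cast; ring) (by omega) h)
  exact isGloballyGenerated_of_spanAt (Var76.Reg.isQCoh_tw n A F hF.1 m) (key t hPd)

end Groth.Agent.VarCurve

end
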